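import Groth.Agent.S1535
import Groth.Agent.S1585
import Groth.Agent.S1625
import Groth.Agent.S7645
import Groth.Agent.S9690
import Groth.Agent.S9800
import Groth.Agent.CurveCohLib.RegularCurve
import Groth.Agent.RegUFD.Basic

/-! Smooth projective models of curves. -/

noncomputable section

set_option linter.style.haveILetI false
set_option linter.unusedSectionVars false
set_option backward.isDefEq.respectTransparency false
set_option backward.isDefEq.respectTransparency.types false

universe u

open CategoryTheory CategoryTheory.Limits AlgebraicGeometry TopologicalSpace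

namespace Groth.Agent.CurveModel

theorem genericPoint_of_component {Z : Scheme.{u}} [IsIntegral Z] {z : Z}
    (hz : closure {z} ∈ irreducibleComponents ↥Z) : z = genericPoint Z := by
  rw [irreducibleComponents_eq_singleton] at hz
  exact IsGenericPoint.eq (show IsGenericPoint z Set.univ from hz) (genericPoint_spec Z)

theorem map_genericPoint {Z Y : Scheme.{u}} [IsIntegral Z] [IsIntegral Y] (g : Z ⟶ Y) [IsDominant g] :
    g (genericPoint Z) = genericPoint Y := by
  refine IsGenericPoint.eq (S := (Set.univ : Set Y)) ?_ (genericPoint_spec Y)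
  have h := (genericPoint_spec Z).image g.continuous
  rwa [Set.image_univ, g.denseRange.closure_range] at h

/-- A dominant open immersion of integral schemes of finite type over a field preserves dimension. -/
theorem topologicalKrullDim_eq {k : Type u} [Field k] {X Y : Scheme.{u}} [IsIntegral X] [IsIntegral Y]
    (g : Y ⟶ Spec (CommRingCat.of k)) [LocallyOfFiniteType g] (j : X ⟶ Y) [IsOpenImmersion j] [IsDominant j] :
    topologicalKrullDim Y = topologicalKrullDim X := by
  rw [VarDim.topologicalKrullDim_eq_iSup_deg g, VarDim.topologicalKrullDim_eq_iSup_deg (j ≫ g)]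
  refine le_antisymm (iSup_le fun z => ?_) (iSup_le fun x => ?_)
  · refine le_iSup_of_le (genericPoint X) ?_
    rw [VarDim.deg_comp g j, map_genericPoint j]
    exact_mod_cast VarDim.deg_le_of_specializes g (genericPoint_specializes z)
  · rw [VarDim.deg_comp g j]
    exact le_iSup_of_le (j x) le_rfl

theorem exists_model (k : Type u) [Field k] [IsAlgClosed k] (X : Scheme.{u})
    [X.Over (Spec (CommRingCat.of k))] [IsIntegral X] [IsSeparated (X ↘ Spec (CommRingCat.of k))]
    [LocallyOfFiniteType (X ↘ Spec (CommRingCat.of k))] [QuasiCompact (X ↘ Spec (CommRingCat.of k))]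
    (hnor : Pi1.IsNormalScheme X) (hdimX : topologicalKrullDim X = 1) :
    ∃ (Y : Scheme.{u}) (_ : Y.Over (Spec (CommRingCat.of k))) (j : X ⟶ Y), IsOpenImmersion j ∧
      j ≫ (Y ↘ (Spec (CommRingCat.of k))) = X ↘ (Spec (CommRingCat.of k)) ∧ IsIntegral Y ∧
      Smooth (Y ↘ (Spec (CommRingCat.of k))) ∧ topologicalKrullDim Y = 1 ∧
      ∃ (n : ℕ) (i : Y ⟶ CohB1.ProjSpace n k), IsClosedImmersion i ∧
        i ≫ CohB1.ProjSpace.toSpec n k = Y ↘ (Spec (CommRingCat.of k)) := by
  obtain ⟨d, Y, c, j, hc, hj, hjc, hdense, hsd, -, -⟩ := S1625.result k X hdimX.le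
  haveI := hc
  haveI := hj
  haveI := hsd
  haveI : IsDominant j := ⟨hdense⟩
  haveI : IsProper (CohB1.ProjSpace.toSpec d k) := PnCoh.Chow.isProper_toSpec d k
  letI : Y.Over (Spec (CommRingCat.of k)) := ⟨c ≫ CohB1.ProjSpace.toSpec d k⟩
  haveI : IsProper (Y ↘ Spec (CommRingCat.of k)) :=
    inferInstanceAs (IsProper (c ≫ CohB1.ProjSpace.toSpec d k))
  haveI : IsLocallyNoetherian Y := LocallyOfFiniteType.isLocallyNoetherian (Y ↘ Spec (CommRingCat.of k))
  haveI : CompactSpace Y := QuasiCompact.compactSpace_of_compactSpace (Y ↘ Spec (CommRingCat.of k))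
  haveI : IsNoetherian Y := {}
  haveI : IsReduced Y := IsSchemeTheoreticallyDominant.isReduced j
  haveI : IrreducibleSpace Y := by
    haveI : Nonempty Y := ⟨j (genericPoint X)⟩
    have h := ((IrreducibleSpace.isIrreducible_univ X).image j (j.continuous.continuousOn)).closure
    rw [Set.image_univ, j.denseRange.closure_range] at h
    haveI : PreirreducibleSpace Y := ⟨h.isPreirreducible⟩
    exact { toNonempty := inferInstance }
  haveI : IsIntegral Y := isIntegral_of_irreducibleSpace_of_isReduced Y
  haveI : QuasiSeparated (Y.fromSpecStalk (genericPoint Y)) := inferInstance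
  obtain ⟨hfin, hdom, -, hint, hN⟩ := S1585.result k Y
  haveI := hfin
  haveI := hdom
  haveI := hint
  let N := Curv2.normalization Y
  let ν : N ⟶ Y := Curv2.normalizationι Y
  letI : N.Over (Spec (CommRingCat.of k)) := ⟨ν ≫ (Y ↘ Spec (CommRingCat.of k))⟩
  haveI : IsProper (N ↘ Spec (CommRingCat.of k)) :=
    inferInstanceAs (IsProper (ν ≫ (Y ↘ Spec (CommRingCat.of k))))
  haveI : IsLocallyNoetherian N := LocallyOfFiniteType.isLocallyNoetherian (N ↘ Spec (CommRingCat.of k))
  obtain ⟨s, hs, -⟩ := S9690.result Y j hnor fun z hz => by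
    rw [genericPoint_of_component hz]; exact map_genericPoint j
  -- the section is the inverse of the normalisation over the image of `X`
  let W : N.Opens := ν ⁻¹ᵁ j.opensRange
  let p : (W : Scheme.{u}) ⟶ X := IsOpenImmersion.lift j (W.ι ≫ ν) (by
    rintro _ ⟨w, rfl⟩
    exact w.2)
  have hp : p ≫ j = W.ι ≫ ν := IsOpenImmersion.lift_fac _ _ _
  have hsW : Set.range s ⊆ Set.range W.ι := by
    rintro _ ⟨x, rfl⟩
    rw [Scheme.Opens.range_ι]
    show ν (s x) ∈ j.opensRange
    rw [← Scheme.Hom.comp_apply, show s ≫ ν = j from hs]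
    exact ⟨x, rfl⟩
  let s' : X ⟶ W := IsOpenImmersion.lift W.ι s hsW
  have hs' : s' ≫ W.ι = s := IsOpenImmersion.lift_fac _ _ _
  have h1 : s' ≫ p = 𝟙 X := by
    rw [← cancel_mono j, Category.assoc, hp, ← Category.assoc, hs', Category.id_comp]
    exact hs
  haveI : Nonempty W := ⟨s' (genericPoint X)⟩
  haveI : IsIntegral (W : Scheme.{u}) := isIntegral_of_isOpenImmersion W.ι
  haveI : IsDominant (W.ι) := ⟨(W.isOpen.dense ⟨_, (s' (genericPoint X)).2⟩).mono (by rw [Scheme.Opens.range_ι])⟩
  haveI : IsDominant (W.ι ≫ ν) := inferInstance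
  have hWn : Pi1.IsNormalScheme (W : Scheme.{u}) := fun w => by
    obtain ⟨hd, hi⟩ := hN (W.ι w)
    haveI := hd
    haveI := hi
    let e := (asIso (W.ι.stalkMap w)).commRingCatIsoToRingEquiv
    exact ⟨e.symm.toMulEquiv.isDomain, IsIntegrallyClosed.of_equiv e⟩
  obtain ⟨t, -, huniq⟩ := S9690.result Y (W.ι ≫ ν) hWn fun z hz => by
    rw [genericPoint_of_component hz]; exact map_genericPoint _
  have h2 : p ≫ s' = 𝟙 _ := by
    rw [← cancel_mono W.ι, Category.assoc, hs', Category.id_comp]
    exact (huniq (p ≫ s) (show (p ≫ s) ≫ ν = W.ι ≫ ν by rw [Category.assoc, show s ≫ ν = j from hs, hp])).trans (huniq W.ι rfl).symm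
  haveI : IsIso s' := ⟨p, h1, h2⟩
  haveI : IsOpenImmersion s := hs' ▸ inferInstance
  haveI : IsDominant s := by
    rw [← hs']
    infer_instance
  have hdimN : topologicalKrullDim N = 1 := by
    rw [topologicalKrullDim_eq (N ↘ Spec (CommRingCat.of k)) s, hdimX]
  have hsm : Smooth (N ↘ Spec (CommRingCat.of k)) :=
    CurveCohLib.RegularCurve.smooth_of_regular k fun x _ => S9800.result N hN hdimN.le x
  refine ⟨N, inferInstance, s, inferInstance, ?_, inferInstance, hsm, hdimN, S7645.result k N hdimN.le⟩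
  show s ≫ ν ≫ c ≫ CohB1.ProjSpace.toSpec d k = _
  rw [← Category.assoc, show s ≫ ν = j from hs]
  exact hjc

end Groth.Agent.CurveModel
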