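import Groth.Agent.CurveModel.Basic
import Groth.Agent.CurveLuroth.Line

/-! Rational curves are images of the projective line. -/

noncomputable section

set_option linter.style.haveILetI false
set_option linter.unusedSectionVars false
set_option backward.isDefEq.respectTransparency false
set_option backward.isDefEq.respectTransparency.types false

universe u

open CategoryTheory CategoryTheory.Limits AlgebraicGeometry

namespace Groth.Agent.CurveModel

open Groth.Agent.CurveLuroth

theorem ker_eq_bot_of_isDominant {X Y : Scheme.{u}} (g : X ⟶ Y) [IsDominant g] [IsReduced Y] [QuasiCompact g] :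
    g.ker = ⊥ := by
  haveI := IsSchemeTheoreticallyDominant.of_isDominant g
  exact (isSchemeTheoreticallyDominant_iff g).1 inferInstance

theorem ker_comp_of_isDominant {X Y Z : Scheme.{u}} (g : X ⟶ Y) (h : Y ⟶ Z) [IsDominant g] [IsReduced Y]
    [QuasiCompact g] [QuasiCompact h] : (g ≫ h).ker = h.ker := by
  rw [Scheme.Hom.ker_comp, ker_eq_bot_of_isDominant g, Scheme.IdealSheafData.map_bot]

theorem isDominant_of_ker_eq_bot {X Y : Scheme.{u}} (g : X ⟶ Y) [QuasiCompact g] (h : g.ker = ⊥) :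
    IsDominant g := by
  haveI : IsSchemeTheoreticallyDominant g := (isSchemeTheoreticallyDominant_iff g).2 h
  infer_instance

/-- A morphism from a dense open of a curve with valuation rings as local rings extends. -/
theorem exists_extend {k : Type u} [Field k] {B A : Scheme.{u}} [IsIntegral B]
    (b : B ⟶ Spec (CommRingCat.of k)) (a : A ⟶ Spec (CommRingCat.of k)) [IsProper a]
    (hB : ∀ y : B, ValuationRing (B.presheaf.stalk y)) (W : B.Opens) (hW : genericPoint B ∈ W)
    (m : (W : Scheme.{u}) ⟶ A) (hm : m ≫ a = W.ι ≫ b) :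
    ∃ H : B ⟶ A, H ≫ a = b ∧ W.ι ≫ H = m := by
  haveI : A.IsSeparated := ⟨by rw [← Limits.terminal.comp_from a]; infer_instance⟩
  let φ₀ := W.fromSpecStalkOfMem (genericPoint B) hW ≫ m
  have h₀ : φ₀ ≫ a = B.fromSpecStalk _ ≫ b := by
    rw [Category.assoc, hm, Scheme.Opens.fromSpecStalkOfMem_ι_assoc]
  obtain ⟨W', hW', H, hsub, hH, hH'⟩ := H23.RatExtend.extend b a φ₀ h₀ Set.univ
    fun p _ => H23.RatExtend.exists_lift b a φ₀ h₀ p (hB p)
  haveI : IsIso W'.ι := by
    have : Surjective W'.ι := ⟨fun y => ⟨⟨y, hsub trivial⟩, rfl⟩⟩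
    exact (isIso_iff_isOpenImmersion_and_surjective _).2 ⟨inferInstance, this⟩
  refine ⟨inv W'.ι ≫ H, by rw [Category.assoc, hH, IsIso.inv_hom_id_assoc], ?_⟩
  haveI : Nonempty W := ⟨⟨_, hW⟩⟩
  haveI : IsIntegral (W : Scheme.{u}) := isIntegral_of_isOpenImmersion W.ι
  haveI : IsDominant (W.fromSpecStalkOfMem (genericPoint B) hW) := by
    refine ⟨fun w => ?_⟩
    have hg : genericPoint (W : Scheme.{u}) ∈ Set.range (W.fromSpecStalkOfMem (genericPoint B) hW) := by
      refine ⟨IsLocalRing.closedPoint _, ?_⟩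
      apply W.ι.isOpenEmbedding.injective
      rw [genericPoint_eq_of_isOpenImmersion W.ι, ← Scheme.Hom.comp_apply, Scheme.Opens.fromSpecStalkOfMem_ι]
      exact Scheme.fromSpecStalk_closedPoint
    exact (genericPoint_specializes w).mem_closed isClosed_closure (subset_closure hg)
  refine ext_of_isDominant (W.fromSpecStalkOfMem (genericPoint B) hW) ?_
  show _ = φ₀
  rw [← hH', Scheme.Opens.fromSpecStalkOfMem_ι_assoc, ← Scheme.Opens.fromSpecStalkOfMem_ι W' _ hW',
    Category.assoc, IsIso.hom_inv_id_assoc]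

variable (k : Type u) [Field k] [IsAlgClosed k]

theorem valuationRing_line : letI := H23.PnChart.isIntegral_projSpace 1 k
    ∀ y : ↥(CohB1.ProjSpace 1 k), ValuationRing ((CohB1.ProjSpace 1 k).presheaf.stalk y) := by
  letI := H23.PnChart.isIntegral_projSpace 1 k
  letI : (CohB1.ProjSpace 1 k).Over (Spec (CommRingCat.of k)) := ⟨CohB1.ProjSpace.toSpec 1 k⟩
  haveI : IsProper ((CohB1.ProjSpace 1 k) ↘ Spec (CommRingCat.of k)) := PnCoh.Chow.isProper_toSpec 1 k
  have hP : topologicalKrullDim ↥(CohB1.ProjSpace 1 k) = 1 := by simpa using S10829.result k 1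
  have hs : Smooth ((CohB1.ProjSpace 1 k) ↘ Spec (CommRingCat.of k)) := CurveEmbed.smooth_toSpec 1 k
  exact valuationRing_stalk (k := k) hP fun y hy => CurveEmbed.isIntegrallyClosed_of_smooth k hP hy
    (by rw [(Scheme.Hom.smoothLocus_eq_top_iff (f := (CohB1.ProjSpace 1 k) ↘ Spec (CommRingCat.of k))).2 hs]; trivial)

theorem rational_iff {n : ℕ} (C : Scheme.{u}) (i : C ⟶ CohB1.ProjSpace n k) [IsClosedImmersion i] [IsIntegral C]
    (hdim : topologicalKrullDim C = 1) :
    (∃ (U : C.Opens) (V : (CohB1.ProjSpace 1 k).Opens) (e : (↑U : Scheme.{u}) ≅ ↑V),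
        Nonempty U ∧
          e.hom ≫ V.ι ≫ CohB1.ProjSpace.toSpec 1 k = U.ι ≫ i ≫ CohB1.ProjSpace.toSpec n k) ↔
      ∃ f : CohB1.ProjSpace 1 k ⟶ CohB1.ProjSpace n k,
        f ≫ CohB1.ProjSpace.toSpec n k = CohB1.ProjSpace.toSpec 1 k ∧ f.ker = i.ker := by
  letI := H23.PnChart.isIntegral_projSpace 1 k
  haveI : IsProper (CohB1.ProjSpace.toSpec n k) := PnCoh.Chow.isProper_toSpec n k
  haveI : IsProper (CohB1.ProjSpace.toSpec 1 k) := PnCoh.Chow.isProper_toSpec 1 k
  letI : C.Over (Spec (CommRingCat.of k)) := ⟨i ≫ CohB1.ProjSpace.toSpec n k⟩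
  haveI : IsProper (C ↘ Spec (CommRingCat.of k)) := inferInstanceAs (IsProper (i ≫ CohB1.ProjSpace.toSpec n k))
  haveI : IsLocallyNoetherian C := LocallyOfFiniteType.isLocallyNoetherian (C ↘ Spec (CommRingCat.of k))
  haveI : IsLocallyNoetherian (CohB1.ProjSpace 1 k) :=
    LocallyOfFiniteType.isLocallyNoetherian (CohB1.ProjSpace.toSpec 1 k)
  haveI : CompactSpace ↥(CohB1.ProjSpace 1 k) :=
    QuasiCompact.compactSpace_of_compactSpace (CohB1.ProjSpace.toSpec 1 k)
  haveI : CompactSpace C := QuasiCompact.compactSpace_of_compactSpace (C ↘ Spec (CommRingCat.of k))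
  haveI : IsNoetherian C := {}
  haveI : IsNoetherian (CohB1.ProjSpace 1 k) := {}
  constructor
  · rintro ⟨U, V, e, hne, he⟩
    haveI := hne
    obtain ⟨u⟩ := hne
    haveI : Nonempty V := ⟨e.hom u⟩
    have hV : genericPoint (CohB1.ProjSpace 1 k) ∈ V :=
      ((genericPoint_spec (CohB1.ProjSpace 1 k)).mem_open_set_iff V.isOpen).2
        ⟨(e.hom u).1, trivial, (e.hom u).2⟩
    obtain ⟨H, hH, hH'⟩ := exists_extend (CohB1.ProjSpace.toSpec 1 k) (CohB1.ProjSpace.toSpec n k)
      (valuationRing_line k) V hV (e.inv ≫ U.ι ≫ i) (by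
        rw [Category.assoc, Category.assoc, ← he, e.inv_hom_id_assoc])
    refine ⟨H, hH, ?_⟩
    haveI : QuasiCompact H := inferInstance
    haveI : IsDominant V.ι := ⟨(V.isOpen.dense ⟨_, hV⟩).mono (by rw [Scheme.Opens.range_ι])⟩
    haveI : IsDominant U.ι := ⟨(U.isOpen.dense ⟨u.1, u.2⟩).mono (by rw [Scheme.Opens.range_ι])⟩
    rw [← ker_comp_of_isDominant V.ι H, hH', Scheme.Hom.ker_comp_of_isIso]
    exact ker_comp_of_isDominant U.ι i
  · rintro ⟨f, hf, hker⟩
    let f' : CohB1.ProjSpace 1 k ⟶ C := IsClosedImmersion.lift i f hker.ge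
    have hf' : f' ≫ i = f := IsClosedImmersion.lift_fac _ _ _
    haveI : QuasiCompact f' := inferInstance
    haveI : IsDominant f' := by
      refine ⟨?_⟩
      have h1 : (f'.ker.map i) = i.ker := by rw [← Scheme.Hom.ker_comp, hf', hker]
      have h2 : (f'.ker.support : Set C) = Set.univ := by
        have h3 := congrArg (fun I : (CohB1.ProjSpace n k).IdealSheafData => (I.support : Set ↥(CohB1.ProjSpace n k))) h1
        simp only [← Scheme.Hom.ker_comp, hf', Scheme.Hom.support_ker] at h3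
        rw [Scheme.Hom.support_ker]
        refine Set.eq_univ_of_forall fun c => ?_
        have hi : closure (Set.range i) = Set.range i := i.isClosedEmbedding.isClosed_range.closure_eq
        have hc : i c ∈ closure (Set.range f) := by
          rw [show closure (Set.range f) = closure (Set.range i) from h3, hi]
          exact ⟨c, rfl⟩
        rw [show Set.range f = i '' Set.range f' by rw [← Set.range_comp, ← hf']; rfl,
          i.isClosedEmbedding.closure_image_eq] at hc
        obtain ⟨c', hc', hcc⟩ := hc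
        exact i.isClosedEmbedding.injective hcc ▸ hc'
      rw [Scheme.Hom.support_ker] at h2
      exact dense_iff_closure_eq.2 h2
    -- the pullback of functions
    obtain ⟨v, hv, -⟩ := exists_pull (C ↘ Spec (CommRingCat.of k)) f' (map_genericPoint f')
    obtain ⟨θ, hθ⟩ := exists_iso_line_field k
    have hfC : f' ≫ (C ↘ Spec (CommRingCat.of k)) = CohB1.ProjSpace.toSpec 1 k := by
      rw [show (C ↘ Spec (CommRingCat.of k)) = i ≫ CohB1.ProjSpace.toSpec n k from rfl, ← Category.assoc, hf', hf]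
    rw [hfC] at hv
    -- a normal open piece of `C`
    obtain ⟨-, -, ⟨V₀, hV₀, hiso⟩, -, hN⟩ := S1585.result k C
    haveI := hiso
    haveI : Nonempty V₀ := hV₀.to_subtype
    haveI : IsIntegral (V₀ : Scheme.{u}) := isIntegral_of_isOpenImmersion V₀.ι
    letI : (V₀ : Scheme.{u}).Over (Spec (CommRingCat.of k)) := ⟨V₀.ι ≫ (C ↘ Spec (CommRingCat.of k))⟩
    haveI : LocallyOfFiniteType ((V₀ : Scheme.{u}) ↘ Spec (CommRingCat.of k)) :=
      inferInstanceAs (LocallyOfFiniteType (V₀.ι ≫ (C ↘ Spec (CommRingCat.of k))))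
    haveI : IsSeparated ((V₀ : Scheme.{u}) ↘ Spec (CommRingCat.of k)) :=
      inferInstanceAs (IsSeparated (V₀.ι ≫ (C ↘ Spec (CommRingCat.of k))))
    haveI : QuasiCompact ((V₀ : Scheme.{u}) ↘ Spec (CommRingCat.of k)) :=
      inferInstanceAs (QuasiCompact (V₀.ι ≫ (C ↘ Spec (CommRingCat.of k))))
    have hV₀n : Pi1.IsNormalScheme (V₀ : Scheme.{u}) := fun w => by
      let q := (Curv2.normalizationι C) ∣_ V₀
      obtain ⟨hd, hi⟩ := hN (((Curv2.normalizationι C) ⁻¹ᵁ V₀).ι (inv q w))
      let j := inv q ≫ ((Curv2.normalizationι C) ⁻¹ᵁ V₀).ι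
      let e := (asIso (j.stalkMap w)).commRingCatIsoToRingEquiv
      haveI : IsDomain ((Curv2.normalization C).presheaf.stalk (j w)) := hd
      haveI : IsIntegrallyClosed ((Curv2.normalization C).presheaf.stalk (j w)) := hi
      exact ⟨e.symm.toMulEquiv.isDomain, IsIntegrallyClosed.of_equiv e⟩
    haveI : IsDominant V₀.ι := ⟨(V₀.isOpen.dense hV₀).mono (by rw [Scheme.Opens.range_ι])⟩
    have hdimV : topologicalKrullDim (V₀ : Scheme.{u}) = 1 :=
      (topologicalKrullDim_eq (C ↘ Spec (CommRingCat.of k)) V₀.ι).symm.trans hdim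
    obtain ⟨N, hNo, j, hj, hjf, hNi, hNs, hdimN, m, c, hc, hcf⟩ := exists_model k (V₀ : Scheme.{u}) hV₀n hdimV
    haveI := hj
    haveI := hNi
    haveI := hNs
    haveI := hc
    haveI : IsProper (CohB1.ProjSpace.toSpec m k) := PnCoh.Chow.isProper_toSpec m k
    haveI : IsProper (N ↘ Spec (CommRingCat.of k)) := hcf ▸ inferInstance
    obtain ⟨a, ha, haiso⟩ := exists_pull (N ↘ Spec (CommRingCat.of k)) j (genericPoint_eq_of_isOpenImmersion j)
    obtain ⟨b, hb, hbiso⟩ := exists_pull (C ↘ Spec (CommRingCat.of k)) V₀.ι (genericPoint_eq_of_isOpenImmersion V₀.ι)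
    haveI := hbiso inferInstance
    rw [hjf] at ha
    obtain ⟨ε, hε⟩ := exists_iso_line_of_embedding (k := k) (X := N) hdimN
      (fun x hx => CurveEmbed.isIntegrallyClosed_of_smooth k hdimN hx
        (by rw [(Scheme.Hom.smoothLocus_eq_top_iff (f := N ↘ Spec (CommRingCat.of k))).2 hNs]; trivial))
      (a ≫ inv b ≫ v ≫ θ.hom) (by
        rw [← Category.assoc, ha, show ((V₀ : Scheme.{u}) ↘ Spec (CommRingCat.of k)) = V₀.ι ≫ (C ↘ Spec (CommRingCat.of k)) from rfl,
          ← hb, Category.assoc, IsIso.hom_inv_id_assoc, ← Category.assoc, hv]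
        exact hθ)
    let ψ : (V₀ : Scheme.{u}) ⟶ CohB1.ProjSpace 1 k := j ≫ ε.hom
    refine ⟨V₀, ψ.opensRange, ψ.isoOpensRange, inferInstance, ?_⟩
    rw [Scheme.Hom.isoOpensRange_hom_ι_assoc, Category.assoc, hε]
    exact hjf

end Groth.Agent.CurveModel
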